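/-
Checks of the eight reflections.
-/
import Cfsg.Agent.Lib.Spor.Fi24Pres.Roots.Data
import Cfsg.Agent.Lib.Spor.TC.Strict

namespace CfsgLib.Spor.Fi24.Roots

open CfsgLib.Spor.TC

set_option maxRecDepth 100000 in
theorem range0 : act.RangeOK relsC8 0 120 :=
  Act.RangeOK.of_checkS _ (by decide +kernel)

set_option maxRecDepth 100000 in
theorem range120 : act.RangeOK relsC8 120 240 :=
  Act.RangeOK.of_checkS _ (by decide +kernel)

theorem valid : act.Valid relsC8 :=
  ⟨range0.append _ range120, by decide +kernel, by decide +kernel⟩

set_option maxRecDepth 100000 in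
theorem top_ok : act.levelsOK top [] = true ∧ levelsProd top = 696729600 := by decide +kernel

set_option maxRecDepth 100000 in
theorem s0_ok : act.levelsOK s0 [] = true ∧ levelsProd s0 = 725760 := by decide +kernel

set_option maxRecDepth 100000 in
theorem s1_ok : act.levelsOK s1 [] = true ∧ levelsProd s1 = 725760 := by decide +kernel

set_option maxRecDepth 100000 in
theorem s2_ok : act.levelsOK s2 [] = true ∧ levelsProd s2 = 5806080 := by decide +kernel

set_option maxRecDepth 100000 in
theorem s3_ok : act.levelsOK s3 [] = true ∧ levelsProd s3 = 221184 := by decide +kernel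

set_option maxRecDepth 100000 in
theorem s4_ok : act.levelsOK s4 [] = true ∧ levelsProd s4 = 31104 := by decide +kernel

set_option maxRecDepth 100000 in
theorem s5_ok : act.levelsOK s5 [] = true ∧ levelsProd s5 = 31104 := by decide +kernel

set_option maxRecDepth 100000 in
theorem s6_ok : act.levelsOK s6 [] = true ∧ levelsProd s6 = 4608 := by decide +kernel

set_option maxRecDepth 100000 in
theorem s7_ok : act.levelsOK s7 [] = true ∧ levelsProd s7 = 362880 := by decide +kernel

set_option maxRecDepth 100000 in
theorem s8_ok : act.levelsOK s8 [] = true ∧ levelsProd s8 = 362880 := by decide +kernel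

set_option maxRecDepth 100000 in
theorem s9_ok : act.levelsOK s9 [] = true ∧ levelsProd s9 = 2903040 := by decide +kernel

set_option maxRecDepth 100000 in
theorem e7_ok : act.levelsOK e7 [] = true ∧ levelsProd e7 = 2903040 := by decide +kernel

end CfsgLib.Spor.Fi24.Roots
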